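import Groth.Prelude.Def_W4c5algebraiztannakaNis
import Groth.Agent.RedSepLib.Basic
import Mathlib.RingTheory.Support
import Mathlib.RingTheory.Nakayama
import Mathlib.RingTheory.Flat.FaithfullyFlat.Algebra

/-!
Numbers of generators along a Nisnevich cover of bounded length.
-/

set_option autoImplicit false
universe u v w

namespace Groth.Agent.PerfSize

open CategoryTheory AlgebraicGeometry TensorProduct

/-- generated by at most `k` elements -/
def Gen (R : Type u) [CommRing R] (k : ℕ) (M : Type v) [AddCommGroup M] [Module R M] : Prop :=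
  ∃ g : (Fin k → R) →ₗ[R] M, Function.Surjective g

section

variable {R : Type u} [CommRing R] {M : Type v} [AddCommGroup M] [Module R M] {N : Type w} [AddCommGroup N]
  [Module R N]

theorem Gen.of_surjective {k : ℕ} (h : Gen R k M) (f : M →ₗ[R] N) (hf : Function.Surjective f) : Gen R k N := by
  obtain ⟨g, hg⟩ := h
  exact ⟨f.comp g, hf.comp hg⟩

theorem Gen.mono {k k' : ℕ} (h : Gen R k M) (hk : k ≤ k') : Gen R k' M := by
  obtain ⟨g, hg⟩ := h
  refine ⟨g.comp (LinearMap.funLeft R R (Fin.castLE hk)), hg.comp ?_⟩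
  exact LinearMap.funLeft_surjective_of_injective R R _ (Fin.castLE_injective hk)

theorem Gen.of_subsingleton (k : ℕ) [Subsingleton M] : Gen R k M := ⟨0, fun x => ⟨0, Subsingleton.elim _ _⟩⟩

theorem Gen.prod {k l : ℕ} (h : Gen R k M) (h' : Gen R l N) : Gen R (k + l) (M × N) := by
  obtain ⟨g, hg⟩ := h
  obtain ⟨g', hg'⟩ := h'
  refine ⟨LinearMap.prod (g.comp (LinearMap.funLeft R R (Fin.castAdd l)))
    (g'.comp (LinearMap.funLeft R R (Fin.natAdd k))), fun ⟨x, y⟩ => ?_⟩
  obtain ⟨a, rfl⟩ := hg x
  obtain ⟨b, rfl⟩ := hg' y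
  refine ⟨Fin.append a b, Prod.ext ?_ ?_⟩
  · exact congrArg g (funext fun i => Fin.append_left a b i)
  · exact congrArg g' (funext fun i => Fin.append_right a b i)

theorem Gen.exists_span {k : ℕ} (h : Gen R k M) : ∃ x : Fin k → M, Submodule.span R (Set.range x) = ⊤ := by
  obtain ⟨g, hg⟩ := h
  refine ⟨fun i => g (Pi.single i 1), ?_⟩
  rw [eq_top_iff]
  rintro y -
  obtain ⟨a, rfl⟩ := hg y
  rw [pi_eq_sum_univ' a, map_sum]
  refine Submodule.sum_mem _ fun i _ => ?_
  rw [map_smul]
  refine Submodule.smul_mem _ _ (Submodule.subset_span ⟨i, ?_⟩)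
  simp [Pi.single_apply, eq_comm]

theorem gen_of_span {k : ℕ} (x : Fin k → M) (h : Submodule.span R (Set.range x) = ⊤) : Gen R k M :=
  ⟨Fintype.linearCombination R x, LinearMap.range_eq_top.1 (by rw [Fintype.range_linearCombination, h])⟩

end

variable {R B : Type u} [CommRing R] [CommRing B] [Algebra R B]

/-- A closed subset of a stratum with a section gives a map to the reduced quotient. -/
theorem exists_ringHom_quotient {W : Set (PrimeSpectrum R)}
    (hW : W4c5algebraiztannaka.HasSectOver (Spec.map (CommRingCat.ofHom (algebraMap R B))) W)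
    (J : Ideal R) (hJ : J.IsRadical) (hC : PrimeSpectrum.zeroLocus (J : Set R) ⊆ W) :
    ∃ χ : B →+* R ⧸ J, χ.comp (algebraMap R B) = Ideal.Quotient.mk J := by
  obtain ⟨T, g, s, hg, hrange, hs⟩ := hW
  haveI := hg
  haveI : _root_.IsReduced (R ⧸ J) := (Ideal.isRadical_iff_quotient_reduced J).1 hJ
  let c : Spec (CommRingCat.of (R ⧸ J)) ⟶ Spec (CommRingCat.of R) := Spec.map (CommRingCat.ofHom (Ideal.Quotient.mk J))
  have hc : Set.range c ⊆ Set.range g := by
    refine subset_trans ?_ (hC.trans hrange.symm.subset)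
    refine le_of_eq ?_
    show Set.range (PrimeSpectrum.comap (Ideal.Quotient.mk J)) = _
    rw [range_comap_of_surjective _ _ Ideal.Quotient.mk_surjective, Ideal.mk_ker]
  have hcU : Set.range c ⊆ Set.range g.coborderRange.ι := by
    rw [Scheme.Opens.range_ι]
    exact hc.trans subset_coborder
  let c' := IsOpenImmersion.lift g.coborderRange.ι c hcU
  have hc' : c' ≫ g.coborderRange.ι = c := IsOpenImmersion.lift_fac _ _ hcU
  obtain ⟨t, ht⟩ := RedSepLib.exists_lift_of_isReduced c' g.liftCoborder (by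
    rintro _ ⟨x, rfl⟩
    obtain ⟨y, hy⟩ := hc ⟨x, rfl⟩
    refine ⟨y, g.coborderRange.ι.isOpenEmbedding.injective ?_⟩
    rw [← Scheme.Hom.comp_apply, g.liftCoborder_ι, hy, ← Scheme.Hom.comp_apply, hc'])
  refine ⟨(Spec.preimage (t ≫ s)).hom, ?_⟩
  have h1 : Spec.map (CommRingCat.ofHom (algebraMap R B) ≫ Spec.preimage (t ≫ s)) = c := by
    rw [Spec.map_comp, Spec.map_preimage, Category.assoc, hs, ← hc', ← ht, Category.assoc, g.liftCoborder_ι]
  exact congrArg CommRingCat.Hom.hom (Spec.map_injective h1)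

theorem comap_surjective_of_isNisCoverLen {N : ℕ}
    (h : W4c5algebraiztannaka.IsNisCoverLen (Spec.map (CommRingCat.ofHom (algebraMap R B))) N) :
    Function.Surjective (PrimeSpectrum.comap (algebraMap R B)) := by
  obtain ⟨Z, h0, hlast, hmono, -, hsec⟩ := h.flag
  intro p
  have key : ∀ j : Fin (N + 1), (p : PrimeSpectrum R) ∈ Z j →
      ∃ q, PrimeSpectrum.comap (algebraMap R B) q = p := by
    intro j
    induction j using Fin.induction with
    | zero => rw [h0]; exact fun hp => hp.elim
    | succ k ih =>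
      intro hp
      by_cases hk : p ∈ Z k.castSucc
      · exact ih hk
      obtain ⟨T, g, s, -, hrange, hs⟩ := hsec k
      obtain ⟨t, ht⟩ : p ∈ Set.range (fun t : T => g t) := hrange.symm.subset ⟨hp, hk⟩
      refine ⟨s t, ?_⟩
      show Spec.map (CommRingCat.ofHom (algebraMap R B)) (s t) = p
      rw [← Scheme.Hom.comp_apply, hs]
      exact ht
  exact key (Fin.last N) (by rw [hlast]; exact Set.mem_univ _)

theorem faithfullyFlat_of_isNisCoverLen {N : ℕ}
    (h : W4c5algebraiztannaka.IsNisCoverLen (Spec.map (CommRingCat.ofHom (algebraMap R B))) N) :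
    Module.FaithfullyFlat R B := by
  haveI := h.etale
  haveI : Module.Flat R B := RingHom.flat_algebraMap_iff.1
    (AlgebraicGeometry.Flat.SpecMap_iff.1 (inferInstance : AlgebraicGeometry.Flat (Spec.map (CommRingCat.ofHom (algebraMap R B)))))
  exact Module.FaithfullyFlat.of_comap_surjective (comap_surjective_of_isNisCoverLen h)

theorem exists_gen_quotient {M : Type v} [AddCommGroup M] [Module R M] {k : ℕ} (hM : Gen B k (B ⊗[R] M))
    (J : Ideal R) (χ : B →+* R ⧸ J) (hχ : χ.comp (algebraMap R B) = Ideal.Quotient.mk J) :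
    ∃ y : Fin k → M, Submodule.span R (Set.range y) ⊔ J • ⊤ = ⊤ := by
  obtain ⟨z, hz⟩ := hM.exists_span
  let Q := M ⧸ (J • ⊤ : Submodule R M)
  let χl : B →ₗ[R] R ⧸ J :=
    { toFun := χ
      map_add' := map_add χ
      map_smul' := fun r b => by
        rw [Algebra.smul_def, map_mul, RingHom.id_apply, Algebra.smul_def, ← RingHom.comp_apply, hχ,
          Ideal.Quotient.algebraMap_eq] }
  let Ψ : B ⊗[R] M →ₗ[R] Q :=
    TensorProduct.lift (LinearMap.mk₂ R (fun b m => χl b • (Submodule.mkQ (J • ⊤ : Submodule R M) m))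
      (fun b b' m => by rw [map_add, add_smul]) (fun r b m => by rw [map_smul, smul_assoc])
      (fun b m m' => by rw [map_add, smul_add]) (fun r b m => by rw [map_smul, smul_comm]))
  have hΨ : ∀ (b : B) (x : B ⊗[R] M), Ψ (b • x) = χ b • Ψ x := by
    intro b x
    induction x using TensorProduct.induction_on with
    | zero => simp
    | tmul c m =>
      show χ (b * c) • Submodule.mkQ (J • ⊤ : Submodule R M) m = χ b • (χ c • Submodule.mkQ (J • ⊤ : Submodule R M) m)
      rw [map_mul, mul_smul]
    | add x y hx hy => rw [smul_add, map_add, map_add, smul_add, hx, hy]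
  choose y hy using fun i => Submodule.mkQ_surjective (J • ⊤ : Submodule R M) (Ψ (z i))
  refine ⟨y, eq_top_iff.2 fun m _ => ?_⟩
  have hspan : ∀ x ∈ Submodule.span B (Set.range z),
      Ψ x ∈ Submodule.map (Submodule.mkQ (J • ⊤ : Submodule R M)) (Submodule.span R (Set.range y)) := by
    intro x hx
    induction hx using Submodule.span_induction with
    | mem x hx =>
      obtain ⟨i, rfl⟩ := hx
      exact ⟨y i, Submodule.subset_span ⟨i, rfl⟩, hy i⟩
    | zero => rw [map_zero]; exact zero_mem _
    | add x x' _ _ h h' => rw [map_add]; exact add_mem h h'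
    | smul b x _ h =>
      rw [hΨ]
      obtain ⟨r, hr⟩ := Ideal.Quotient.mk_surjective (χ b)
      rw [← hr]
      exact Submodule.smul_mem _ r h
  have h1 := hspan ((1 : B) ⊗ₜ m) (by rw [hz]; trivial)
  rw [show Ψ ((1 : B) ⊗ₜ m) = Submodule.mkQ _ m by
    show χ 1 • Submodule.mkQ (J • ⊤ : Submodule R M) m = _
    rw [map_one, one_smul], ← Submodule.mem_comap, Submodule.comap_map_mkQ, sup_comm] at h1
  exact h1

/-- A finite module generated by `k` elements after a Nisnevich cover of length `N` is generated by `N * k`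
elements. -/
theorem exists_gen {N : ℕ}
    (h : W4c5algebraiztannaka.IsNisCoverLen (Spec.map (CommRingCat.ofHom (algebraMap R B))) N)
    {M : Type v} [AddCommGroup M] [Module R M] [Module.Finite R M] {k : ℕ} (hM : Gen B k (B ⊗[R] M)) :
    Gen R (N * k) M := by
  obtain ⟨Z, h0, hlast, hmono, hcl, hsec⟩ := h.flag
  suffices H : ∀ j : Fin (N + 1), ∃ S : Submodule R M, Gen R (j * k) S ∧
      ∀ p : PrimeSpectrum R, p ∈ Z j → p ∉ Module.support R (M ⧸ S) by
    obtain ⟨S, hS, hp⟩ := H (Fin.last N)
    have hsub : Subsingleton (M ⧸ S) := Module.support_eq_empty_iff.1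
      (Set.eq_empty_iff_forall_notMem.2 fun p => hp p (by rw [hlast]; exact Set.mem_univ _))
    have hS' : S = ⊤ := Submodule.Quotient.subsingleton_iff.1 hsub
    exact (Fin.val_last N ▸ hS).of_surjective S.subtype fun x => ⟨⟨x, hS' ▸ trivial⟩, rfl⟩
  intro j
  induction j using Fin.induction with
  | zero => exact ⟨⊥, Gen.of_subsingleton _, fun p hp => absurd (h0 ▸ hp) (Set.notMem_empty p)⟩
  | succ i ih =>
    obtain ⟨S, hS, hp⟩ := ih
    obtain ⟨J, hJ, hJr⟩ : ∃ J : Ideal R, PrimeSpectrum.zeroLocus (J : Set R) =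
        Module.support R (M ⧸ S) ∩ Z i.succ ∧ J.IsRadical := by
      refine ⟨PrimeSpectrum.vanishingIdeal (Module.support R (M ⧸ S) ∩ (Z i.succ : Set (PrimeSpectrum R))), ?_,
        PrimeSpectrum.isRadical_vanishingIdeal _⟩
      rw [PrimeSpectrum.zeroLocus_vanishingIdeal_eq_closure, IsClosed.closure_eq]
      exact Module.isClosed_support.inter (hcl i.succ).1
    have hC : PrimeSpectrum.zeroLocus (J : Set R) ⊆ Z i.succ \ Z i.castSucc := by
      rw [hJ]
      exact fun p hp' => ⟨hp'.2, fun hz => hp p hz hp'.1⟩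
    obtain ⟨χ, hχ⟩ := exists_ringHom_quotient (hsec i) J hJr hC
    obtain ⟨y, hy⟩ := exists_gen_quotient hM J χ hχ
    refine ⟨S ⊔ Submodule.span R (Set.range y), ?_, ?_⟩
    · have h1 : Gen R k (Submodule.span R (Set.range y)) :=
        gen_of_span (fun a => ⟨y a, Submodule.subset_span ⟨a, rfl⟩⟩) (by
          rw [eq_top_iff]
          rintro ⟨x, hx⟩ -
          induction hx using Submodule.span_induction with
          | mem x hx => obtain ⟨a, rfl⟩ := hx; exact Submodule.subset_span ⟨a, rfl⟩
          | zero => exact zero_mem _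
          | add x x' hx hx' h h' => exact add_mem h h'
          | smul r x hx h => exact Submodule.smul_mem _ r h)
      have h2 := (hS.prod h1).of_surjective
        ((Submodule.inclusion (le_sup_left : S ≤ S ⊔ Submodule.span R (Set.range y))).coprod
          (Submodule.inclusion (le_sup_right : Submodule.span R (Set.range y) ≤ S ⊔ Submodule.span R (Set.range y))))
        (fun x => by
          obtain ⟨a, ha, b, hb, hab⟩ := Submodule.mem_sup.1 x.2
          exact ⟨(⟨a, ha⟩, ⟨b, hb⟩), Subtype.ext hab⟩)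
      have : ((i.succ : ℕ)) * k = (i.castSucc : ℕ) * k + k := by simp [Nat.succ_mul]
      rw [this]
      exact h2
    · intro p hpZ hsupp
      set S' := S ⊔ Submodule.span R (Set.range y)
      have hle : Module.support R (M ⧸ S') ⊆ Module.support R (M ⧸ S) :=
        Module.support_subset_of_surjective (Submodule.mapQ S S' LinearMap.id le_sup_left) (fun x => by
          obtain ⟨m, rfl⟩ := Submodule.Quotient.mk_surjective _ x
          exact ⟨Submodule.Quotient.mk m, rfl⟩)
      have hpJ : p ∈ PrimeSpectrum.zeroLocus (J : Set R) := hJ.symm.subset ⟨hle hsupp, hpZ⟩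
      have htop : (⊤ : Submodule R (M ⧸ S')) ≤ J • ⊤ := by
        rintro x -
        obtain ⟨m, rfl⟩ := Submodule.mkQ_surjective S' x
        have hm : m ∈ Submodule.span R (Set.range y) ⊔ J • ⊤ := hy.symm ▸ trivial
        obtain ⟨a, ha, b, hb, rfl⟩ := Submodule.mem_sup.1 hm
        rw [map_add, show S'.mkQ a = 0 from (Submodule.Quotient.mk_eq_zero S').2 (le_sup_right (a := S) ha), zero_add]
        have := Submodule.mem_map_of_mem (f := S'.mkQ) hb
        rwa [Submodule.map_smul'', Submodule.map_top, Submodule.range_mkQ] at this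
      obtain ⟨r, hr, hr0⟩ :=
        Submodule.exists_sub_one_mem_and_smul_eq_zero_of_fg_of_le_smul J ⊤ Module.Finite.fg_top htop
      rw [Module.mem_support_iff'] at hsupp
      obtain ⟨m, hm⟩ := hsupp
      refine hm r (fun hrp => p.2.ne_top ((Ideal.eq_top_iff_one _).2 ?_)) (hr0 m trivial)
      simpa using p.asIdeal.sub_mem hrp (hpJ hr)

end Groth.Agent.PerfSize
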