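import Groth.Agent.PerfSize.Step

/-!
A perfect complex of bounded local size has bounded global size.
-/

set_option autoImplicit false
set_option maxHeartbeats 1000000
set_option backward.isDefEq.respectTransparency false
universe u

namespace Groth.Agent.PerfSize

open CategoryTheory Limits HomologicalComplex TensorProduct Pretriangulated AlgebraicGeometry

attribute [local instance] HasDerivedCategory.standard

/-- The bound, for width `n` and local size `M`. -/
def bound (N : ℕ) : ℕ → ℕ → ℕ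
  | 0, _ => 0
  | 1, M => N * M
  | n + 2, M => max (N * M) (bound N (n + 1) (M + N * M))

variable {R B : Type u} [CommRing R] [CommRing B]

theorem homology_iso {X Y : DRing.Cx R} (e : DRing.toD X ≅ DRing.toD Y) (i : ℤ) :
    Nonempty (X.homology i ≅ Y.homology i) :=
  ⟨((DerivedCategory.homologyFunctorFactors (ModuleCat.{u} R) i).app X).symm ≪≫
    (DerivedCategory.homologyFunctor (ModuleCat.{u} R) i).mapIso e ≪≫
    (DerivedCategory.homologyFunctorFactors (ModuleCat.{u} R) i).app Y⟩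

theorem isFP_mono {P : DRing.Cx R} {c d c' d' : ℤ} (h : IsFP P c d) (hc : c' ≤ c) (hd : d ≤ d') : IsFP P c' d' :=
  ⟨fun i hi => h.1 i (by omega), h.2⟩

variable {N : ℕ} (φ : R →+* B)
  (hcov : W4c5algebraiztannaka.IsNisCoverLen (Spec.map (CommRingCat.ofHom φ)) N)

include hcov in
theorem ff : letI := φ.toAlgebra; Module.FaithfullyFlat R B := by
  algebraize [φ]
  exact faithfullyFlat_of_isNisCoverLen hcov

include hcov in
theorem flat : φ.Flat := by
  algebraize [φ]
  haveI : Module.FaithfullyFlat R B := faithfullyFlat_of_isNisCoverLen hcov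
  exact (inferInstance : Module.Flat R B)

include hcov in
theorem isZero_homology {E : DRing.Cx R} {i : ℤ} (h : IsZero (((DRingKP.bc φ).obj E).homology i)) :
    IsZero (E.homology i) := by
  algebraize [φ]
  haveI : Module.FaithfullyFlat R B := faithfullyFlat_of_isNisCoverLen hcov
  obtain ⟨e⟩ := exists_homology_bc φ (flat φ hcov) E i
  obtain ⟨e'⟩ := extendScalars_equiv φ (E.homology i)
  haveI := ModuleCat.subsingleton_of_isZero (h.of_iso e.symm)
  haveI : Subsingleton (B ⊗[R] E.homology i) := e'.symm.toEquiv.subsingleton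
  haveI := Module.FaithfullyFlat.lTensor_reflects_triviality R B (E.homology i)
  exact ModuleCat.isZero_of_subsingleton _

include hcov in
theorem exists_shrink {E : DRing.Cx R} {a b : ℤ} (hE : IsFP E a b) {d₀ : ℤ}
    (h : ∀ i, d₀ < i → IsZero (((DRingKP.bc φ).obj E).homology i)) :
    ∃ E' : DRing.Cx R, IsFP E' a d₀ ∧ Nonempty (DRing.toD E' ≅ DRing.toD E) := by
  suffices H : ∀ (k : ℕ) (E : DRing.Cx R) (b : ℤ), b ≤ d₀ + k → IsFP E a b →
      (∀ i, d₀ < i → IsZero (E.homology i)) →
      ∃ E' : DRing.Cx R, IsFP E' a d₀ ∧ Nonempty (DRing.toD E' ≅ DRing.toD E) from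
    H (b - d₀).toNat E b (by omega) hE fun i hi => isZero_homology φ hcov (h i hi)
  intro k
  induction k with
  | zero => exact fun E b hb hE _ => ⟨E, isFP_mono hE le_rfl (by omega), ⟨Iso.refl _⟩⟩
  | succ k ih =>
    intro E b hb hE hz
    by_cases hbd : b ≤ d₀
    · exact ⟨E, isFP_mono hE le_rfl hbd, ⟨Iso.refl _⟩⟩
    obtain ⟨E', hE', ⟨e⟩, -⟩ := exists_strip hE (hz b (by omega))
    obtain ⟨E'', hE'', ⟨e'⟩⟩ := ih E' (b - 1) (by omega) hE' fun i hi =>
      (hz i hi).of_iso (homology_iso e i).some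
    exact ⟨E'', hE'', ⟨e' ≪≫ e⟩⟩

include hcov in
theorem gen_top {E : DRing.Cx R} {a d : ℤ} (hE : IsFP E a d) {P : DRing.Cx B} {c : ℤ} {M : ℕ}
    (hP : Sized P c d M) (e : DRing.toD ((DRingKP.bc φ).obj E) ≅ DRing.toD P) :
    Gen R (N * M) (E.homology d) := by
  algebraize [φ]
  obtain ⟨f, hf⟩ := exists_surjective_homology hE
  haveI := (hE.2 d).1
  haveI : Module.Finite R (E.homology d) := Module.Finite.of_surjective f hf
  obtain ⟨g, hg⟩ := exists_surjective_homology hP.1
  obtain ⟨e₁⟩ := homology_iso e d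
  obtain ⟨e₂⟩ := exists_homology_bc φ (flat φ hcov) E d
  obtain ⟨e₃⟩ := extendScalars_equiv φ (E.homology d)
  exact exists_gen hcov (((hP.2 d).of_surjective g hg).of_surjective
    ((e₁.symm ≪≫ e₂).toLinearEquiv.trans e₃).toLinearMap ((e₁.symm ≪≫ e₂).toLinearEquiv.trans e₃).surjective)

theorem exists_sized_of_isZero {E : DRing.Cx R} (h : ∀ i, IsZero (E.homology i)) (c d : ℤ) (M : ℕ) :
    ∃ Q : DRing.Cx R, Sized Q c d M ∧ Nonempty (DRing.toD Q ≅ DRing.toD E) := by
  have hz : IsZero (DRing.toD E) := by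
    haveI : (DRing.toD E).IsLE 0 := (DerivedCategory.isLE_iff _ 0).2 fun i _ =>
      (h i).of_iso ((DerivedCategory.homologyFunctorFactors (ModuleCat.{u} R) i).app E)
    haveI : (DRing.toD E).IsGE 1 := (DerivedCategory.isGE_iff _ 1).2 fun i _ =>
      (h i).of_iso ((DerivedCategory.homologyFunctorFactors (ModuleCat.{u} R) i).app E)
    exact DerivedCategory.TStructure.t.isZero _ 0 1 (by omega)
  let Z : DRing.Cx R := (HomologicalComplex.single _ (ComplexShape.up ℤ) c).obj (ModuleCat.of R PUnit.{u + 1})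
  have hZ : ∀ i, Subsingleton (Z.X i) := fun i => by
    refine ModuleCat.subsingleton_of_isZero ?_
    by_cases hi : i = c
    · subst hi
      exact (ModuleCat.isZero_of_subsingleton _).of_iso (HomologicalComplex.singleObjXSelf (ComplexShape.up ℤ) i _)
    · exact HomologicalComplex.isZero_single_obj_X _ _ _ i hi
  refine ⟨Z, ⟨⟨fun i _ => haveI := hZ i; ModuleCat.isZero_of_subsingleton _,
    fun i => haveI := hZ i; ⟨Module.Finite.of_finite, Module.Projective.of_free⟩⟩,
    fun i => haveI := hZ i; Gen.of_subsingleton _⟩, ⟨IsZero.iso ?_ hz⟩⟩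
  refine Functor.map_isZero DerivedCategory.Q ?_
  exact (HomologicalComplex.single _ (ComplexShape.up ℤ) c).map_isZero (ModuleCat.isZero_of_subsingleton _)

include hcov in
theorem main_one {E : DRing.Cx R} {a : ℤ} {c : ℤ} (hE : IsFP E a c) {P : DRing.Cx B} {M : ℕ}
    (hP : Sized P c c M) (e : DRing.toD ((DRingKP.bc φ).obj E) ≅ DRing.toD P) :
    ∃ Q : DRing.Cx R, Sized Q c c (N * M) ∧ Nonempty (DRing.toD Q ≅ DRing.toD E) := by
  have hgen := gen_top φ hcov hE hP e
  algebraize [φ]
  haveI : Module.FaithfullyFlat R B := faithfullyFlat_of_isNisCoverLen hcov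
  have hz : ∀ i, i ≠ c → IsZero (E.homology i) := fun i hi => isZero_homology φ hcov
    ((ShortComplex.isZero_homology_of_isZero_X₂ _ (hP.1.1 i (by omega))).of_iso (homology_iso e i).some)
  let H := E.homology c
  obtain ⟨e₁⟩ := homology_iso e c
  obtain ⟨e₂⟩ := exists_homology_bc φ (flat φ hcov) E c
  obtain ⟨e₃⟩ := extendScalars_equiv φ H
  obtain ⟨g, hg⟩ := hgen
  haveI : Module.Finite R H := Module.Finite.of_surjective g hg
  have hPd : ∀ i j, P.d i j = 0 := fun i j => by
    by_cases hi : i = c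
    · subst hi
      by_cases hj : i + 1 = j
      · exact (hP.1.1 j (by omega)).eq_of_tgt _ _
      · exact P.shape i j hj
    · exact (hP.1.1 i (by omega)).eq_of_src _ _
  haveI : IsIso (P.homologyπ c) := P.isIso_homologyπ (c - 1) c (by simp) (hPd _ _)
  haveI : IsIso (P.iCycles c) := P.isIso_iCycles c (c + 1) (by simp) (hPd _ _)
  haveI := (hP.1.2 c).2
  haveI : Module.Projective B (B ⊗[R] H) := Module.Projective.of_equiv
    ((((asIso (P.iCycles c)).symm ≪≫ asIso (P.homologyπ c)) ≪≫ e₁.symm ≪≫ e₂).toLinearEquiv.trans e₃)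
  haveI := projective_of_baseChange (R := R) (B := B) H
  haveI : (DRing.toD E).IsLE c := (DerivedCategory.isLE_iff _ c).2 fun i hi =>
    (hz i (by omega)).of_iso ((DerivedCategory.homologyFunctorFactors (ModuleCat.{u} R) i).app E)
  haveI : (DRing.toD E).IsGE c := (DerivedCategory.isGE_iff _ c).2 fun i hi =>
    (hz i (by omega)).of_iso ((DerivedCategory.homologyFunctorFactors (ModuleCat.{u} R) i).app E)
  obtain ⟨X, ⟨eX⟩⟩ := DerivedCategory.exists_iso_singleFunctor_obj_of_isGE_of_isLE (DRing.toD E) c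
  let Q : DRing.Cx R := (HomologicalComplex.single _ (ComplexShape.up ℤ) c).obj X
  have eQ : DRing.toD Q ≅ DRing.toD E :=
    ((DerivedCategory.singleFunctorIsoCompQ (ModuleCat.{u} R) c).app X).symm ≪≫ eX.symm
  obtain ⟨eH⟩ := homology_iso eQ c
  let eT : Q.X c ≅ H := HomologicalComplex.singleObjXSelf (ComplexShape.up ℤ) c X ≪≫
    (HomologicalComplex.singleObjHomologySelfIso _ c X).symm ≪≫ eH
  refine ⟨Q, ⟨⟨fun i hi => HomologicalComplex.isZero_single_obj_X _ _ _ i (by omega), fun i => ?_⟩, fun i => ?_⟩, ⟨eQ⟩⟩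
  · by_cases hi : i = c
    · subst hi
      exact ⟨Module.Finite.equiv eT.toLinearEquiv.symm, Module.Projective.of_equiv eT.toLinearEquiv.symm⟩
    · haveI := ModuleCat.subsingleton_of_isZero (HomologicalComplex.isZero_single_obj_X (ComplexShape.up ℤ) c X i hi)
      exact ⟨Module.Finite.of_finite, Module.Projective.of_free⟩
  · by_cases hi : i = c
    · subst hi
      exact Gen.of_surjective ⟨g, hg⟩ eT.toLinearEquiv.symm.toLinearMap eT.toLinearEquiv.symm.surjective
    · haveI := ModuleCat.subsingleton_of_isZero (HomologicalComplex.isZero_single_obj_X (ComplexShape.up ℤ) c X i hi)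
      exact Gen.of_subsingleton _

/-- A single finite free module. -/
theorem free_single (m : ℕ) (d : ℤ) :
    IsFP ((HomologicalComplex.single (ModuleCat.{u} R) (ComplexShape.up ℤ) d).obj (ModuleCat.of R (Fin m → R))) d d ∧
      ∀ i, Gen R m (((HomologicalComplex.single (ModuleCat.{u} R) (ComplexShape.up ℤ) d).obj
        (ModuleCat.of R (Fin m → R))).X i) := by
  have key : ∀ i, i = d → Nonempty ((Fin m → R) ≃ₗ[R] ((HomologicalComplex.single (ModuleCat.{u} R)
      (ComplexShape.up ℤ) d).obj (ModuleCat.of R (Fin m → R))).X i) := by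
    rintro i rfl
    exact ⟨(HomologicalComplex.singleObjXSelf (ComplexShape.up ℤ) i (ModuleCat.of R (Fin m → R))).toLinearEquiv.symm⟩
  refine ⟨⟨fun i hi => HomologicalComplex.isZero_single_obj_X _ _ _ i (by omega), fun i => ?_⟩, fun i => ?_⟩
  · by_cases hi : i = d
    · obtain ⟨e⟩ := key i hi
      exact ⟨Module.Finite.equiv e, Module.Projective.of_equiv e⟩
    · haveI := ModuleCat.subsingleton_of_isZero (HomologicalComplex.isZero_single_obj_X (ComplexShape.up ℤ) d
        (ModuleCat.of R (Fin m → R)) i hi)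
      exact ⟨Module.Finite.of_finite, Module.Projective.of_free⟩
  · by_cases hi : i = d
    · obtain ⟨e⟩ := key i hi
      exact ⟨e.toLinearMap, e.surjective⟩
    · haveI := ModuleCat.subsingleton_of_isZero (HomologicalComplex.isZero_single_obj_X (ComplexShape.up ℤ) d
        (ModuleCat.of R (Fin m → R)) i hi)
      exact Gen.of_subsingleton _

theorem gen_bc {M : ModuleCat.{u} R} {m : ℕ} (h : Gen R m M) :
    Gen B m ((ModuleCat.extendScalars.{u, u, u} φ).obj M) := by
  algebraize [φ]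
  obtain ⟨e⟩ := extendScalars_equiv φ M
  obtain ⟨g, hg⟩ := h
  refine Gen.of_surjective (M := Fin m → B) ⟨LinearMap.id, Function.surjective_id⟩
    (e.symm.toLinearMap.comp ((g.baseChange B).comp (TensorProduct.piScalarRight R B B (Fin m)).symm.toLinearMap)) ?_
  exact e.symm.surjective.comp ((show Function.Surjective (g.baseChange B) from LinearMap.lTensor_surjective B hg).comp
    (TensorProduct.piScalarRight R B B (Fin m)).symm.surjective)

/-- Killing top homology by a free module. -/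
theorem exists_killing {E : DRing.Cx R} {a d : ℤ} (hE : IsFP E a d) {m : ℕ} (h : Gen R m (E.homology d)) :
    ∃ g : (HomologicalComplex.single (ModuleCat.{u} R) (ComplexShape.up ℤ) d).obj (ModuleCat.of R (Fin m → R)) ⟶ E,
      IsZero ((CochainComplex.mappingCone g).homology d) := by
  obtain ⟨g₀, hg₀⟩ := h
  have hd : E.d d (d + 1) = 0 := (hE.1 (d + 1) (Or.inr (by omega))).eq_of_tgt _ _
  haveI : IsIso (E.iCycles d) := E.isIso_iCycles d (d + 1) (by simp) hd
  let f : E.X d →ₗ[R] E.homology d := (inv (E.iCycles d) ≫ E.homologyπ d).hom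
  have hf : Function.Surjective f := (ModuleCat.epi_iff_surjective (inv (E.iCycles d) ≫ E.homologyπ d)).1 inferInstance
  obtain ⟨g₁, hg₁⟩ := Module.projective_lifting_property f g₀ hf
  let g := HomologicalComplex.mkHomFromSingle (K := E) (j := d) (ModuleCat.ofHom g₁) (fun j hj => by
    obtain rfl : d + 1 = j := hj
    rw [hd, comp_zero])
  refine ⟨g, ?_⟩
  rw [← HomologicalComplex.exactAt_iff_isZero_homology,
    HomologicalComplex.exactAt_iff' _ (d - 1) d (d + 1) (by simp) (by simp), ShortComplex.moduleCat_exact_iff]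
  intro x _
  obtain ⟨u, w, hx⟩ := CochainComplex.mappingCone.decomp_to g
    (ModuleCat.ofHom (LinearMap.toSpanSingleton R _ x)) (d + 1) rfl
  have hu : u = 0 := (HomologicalComplex.isZero_single_obj_X (ComplexShape.up ℤ) d
    (ModuleCat.of R (Fin m → R)) (d + 1) (by omega)).eq_of_tgt _ _
  rw [hu, zero_comp, zero_add] at hx
  have hx' : x = (CochainComplex.mappingCone.inr g).f d (w (1 : R)) :=
    (one_smul R x).symm.trans (ConcreteCategory.congr_hom hx (1 : R))
  let y : E.X d := w (1 : R)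
  obtain ⟨v, hv⟩ := hg₀ (f y)
  have hker : ∃ z, E.d (d - 1) d z = y - g₁ v := by
    have h0 : f (y - g₁ v) = 0 := by
      rw [map_sub, show f (g₁ v) = g₀ v from LinearMap.congr_fun hg₁ v, hv, sub_self]
    have hex := ShortComplex.exact_of_g_is_cokernel (ShortComplex.mk (E.toCycles (d - 1) d) (E.homologyπ d) (by simp))
      (E.homologyIsCokernel (d - 1) d (by simp))
    obtain ⟨z₀, hz₀⟩ : ∃ z₀, E.iCycles d z₀ = y - g₁ v :=
      (ModuleCat.epi_iff_surjective _).1 inferInstance _
    obtain ⟨z, hz⟩ := (ShortComplex.moduleCat_exact_iff _).1 hex z₀ (by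
      have h4 : E.homologyπ d (inv (E.iCycles d) (E.iCycles d z₀)) = 0 := by rw [hz₀]; exact h0
      rwa [← ConcreteCategory.comp_apply (E.iCycles d), IsIso.hom_inv_id] at h4)
    exact ⟨z, by rw [← hz₀, ← hz]; exact (ConcreteCategory.congr_hom (E.toCycles_i (d - 1) d) z).symm⟩
  obtain ⟨z, hz⟩ := hker
  let v' : ((HomologicalComplex.single (ModuleCat.{u} R) (ComplexShape.up ℤ) d).obj (ModuleCat.of R (Fin m → R))).X d :=
    (HomologicalComplex.singleObjXSelf (ComplexShape.up ℤ) d (ModuleCat.of R (Fin m → R))).inv v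
  refine ⟨(CochainComplex.mappingCone.inl g).v d (d - 1) (by omega) v' +
    (CochainComplex.mappingCone.inr g).f (d - 1) z, ?_⟩
  have h1 := ConcreteCategory.congr_hom (CochainComplex.mappingCone.inl_v_d g d (d - 1) (d + 1) (by omega) (by omega)) v'
  have h2 := ConcreteCategory.congr_hom ((CochainComplex.mappingCone.inr g).comm (d - 1) d) z
  have h3 : g.f d v' = g₁ v := by
    simp only [g, HomologicalComplex.mkHomFromSingle_f]
    exact congrArg g₁ (ConcreteCategory.congr_hom (HomologicalComplex.singleObjXSelf (ComplexShape.up ℤ) d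
      (ModuleCat.of R (Fin m → R))).inv_hom_id v)
  simp only [ShortComplex.moduleCat_exact_iff, HomologicalComplex.single_obj_d, zero_comp, sub_zero] at h1
  change (CochainComplex.mappingCone g).d (d - 1) d _ = x
  rw [hx', map_add]
  refine (congrArg₂ (· + ·) h1 h2).trans ?_
  show (CochainComplex.mappingCone.inr g).f d (g.f d v') + (CochainComplex.mappingCone.inr g).f d (E.d (d - 1) d z) = _
  rw [← map_add, h3, hz]
  congr 1
  abel

include hcov in
theorem main : ∀ (n : ℕ) (M : ℕ) (E : DRing.Cx R) (a b : ℤ), IsFP E a b → ∀ (c : ℤ) (P : DRing.Cx B),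
    Sized P c (c + n - 1) M → (DRing.toD ((DRingKP.bc φ).obj E) ≅ DRing.toD P) →
      ∃ Q : DRing.Cx R, Sized Q c (c + n - 1) (bound N n M) ∧ Nonempty (DRing.toD Q ≅ DRing.toD E)
  | 0, M, E, a, b, hE, c, P, hP, e =>
    exists_sized_of_isZero (fun i => isZero_homology φ hcov
      ((ShortComplex.isZero_homology_of_isZero_X₂ _ (hP.1.1 i (by omega))).of_iso (homology_iso e i).some)) _ _ _
  | 1, M, E, a, b, hE, c, P, hP, e => by
    obtain ⟨E', hE', ⟨eE⟩⟩ := exists_shrink φ hcov hE (d₀ := c) fun i hi =>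
      (ShortComplex.isZero_homology_of_isZero_X₂ _ (hP.1.1 i (by omega))).of_iso (homology_iso e i).some
    obtain ⟨eB⟩ := bc_iso φ hE' hE eE
    rw [show c + ((1 : ℕ) : ℤ) - 1 = c by omega] at hP ⊢
    obtain ⟨Q, hQ, ⟨eQ⟩⟩ := main_one φ hcov hE' hP (eB ≪≫ e)
    exact ⟨Q, hQ, ⟨eQ ≪≫ eE⟩⟩
  | n + 2, M, E₀, a, b, hE₀, c, P, hP, e₀ => by
    obtain ⟨d, hd⟩ : ∃ d, d = c + ((n + 2 : ℕ) : ℤ) - 1 := ⟨_, rfl⟩
    rw [← hd] at hP ⊢
    obtain ⟨E, hE, ⟨eE⟩⟩ := exists_shrink φ hcov hE₀ (d₀ := d) fun i hi =>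
      (ShortComplex.isZero_homology_of_isZero_X₂ _ (hP.1.1 i (by omega))).of_iso (homology_iso e₀ i).some
    obtain ⟨eB⟩ := bc_iso φ hE hE₀ eE
    let e := eB ≪≫ e₀
    obtain ⟨g, hg⟩ := exists_killing hE (gen_top φ hcov hE hP e)
    obtain ⟨hS, hSgen⟩ := free_single (R := R) (N * M) d
    obtain ⟨hK, -⟩ := cone_spec g hS hE
    obtain ⟨K, hK', ⟨eK⟩, -⟩ := exists_strip (isFP_mono hK le_rfl (show max d (d - 1) ≤ d by omega)) hg
    haveI := (isFP_bc φ hS).kProjective
    obtain ⟨σ, hσ⟩ := PerfLocal.exists_lift (DerivedCategory.Q.map ((DRingKP.bc φ).map g) ≫ e.hom)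
    obtain ⟨hC, hCgen⟩ := cone_spec σ (isFP_bc φ hS) hP.1
    obtain ⟨eC⟩ := cone_iso ((DRingKP.bc φ).map g) σ (Iso.refl _) e (hσ.symm.trans (Category.id_comp _).symm)
    obtain ⟨eKB⟩ := bc_iso φ hK' hK eK
    let eKC : DRing.toD ((DRingKP.bc φ).obj K) ≅ DRing.toD (CochainComplex.mappingCone σ) :=
      eKB ≪≫ DerivedCategory.Q.mapIso (CochainComplex.mappingCone.mapHomologicalComplexIso g
        (ModuleCat.extendScalars.{u, u, u} φ)) ≪≫ eC
    obtain ⟨P', hP', ⟨eP'⟩, hP'gen⟩ := exists_strip (isFP_mono hC le_rfl (show max d (d - 1) ≤ d by omega))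
      ((ShortComplex.isZero_homology_of_isZero_X₂ _ (hK'.1 d (by omega)) : IsZero (K.homology d)) |> fun h => by
        obtain ⟨e₁⟩ := exists_homology_bc φ (flat φ hcov) K d
        exact (((ModuleCat.extendScalars.{u, u, u} φ).map_isZero h).of_iso e₁).of_iso (homology_iso eKC d).some.symm)
    have hP'M : Sized P' c (c + ((n + 1 : ℕ) : ℤ) - 1) (M + N * M) := by
      refine ⟨isFP_mono hP' (by omega) (by omega), hP'gen _ fun i => ?_⟩
      exact (hCgen i _ _ (gen_bc φ (hSgen (i + 1))) (hP.2 i)).mono (by omega)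
    obtain ⟨Q', hQ', ⟨eQ'⟩⟩ := main (n + 1) (M + N * M) K _ _ hK' c P' hP'M (eKC ≪≫ eP'.symm)
    -- assemble
    let T := DerivedCategory.Q.mapTriangle.obj (CochainComplex.mappingCone.triangle g)
    have hT : T ∈ distTriang _ := DerivedCategory.mappingCone_triangle_distinguished g
    let S₁ : DRing.Cx R := Q'⟦(-1 : ℤ)⟧
    have hS₁ : IsFP S₁ (c + 1) d :=
      ⟨fun i hi => hQ'.1.1 (i + -1) (by omega), fun i => hQ'.1.2 (i + -1)⟩
    let e₁ : DRing.toD S₁ ≅ T.invRotate.obj₁ :=
      ((DerivedCategory.Q).commShiftIso (-1 : ℤ)).app Q' ≪≫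
        (shiftFunctor (Dual.D R) (-1 : ℤ)).mapIso (eQ' ≪≫ eK)
    haveI := hS₁.kProjective
    obtain ⟨w, hw⟩ := PerfLocal.exists_lift (E := S₁) (F := (HomologicalComplex.single (ModuleCat.{u} R)
      (ComplexShape.up ℤ) d).obj (ModuleCat.of R (Fin (N * M) → R))) (e₁.hom ≫ T.invRotate.mor₁)
    obtain ⟨hQ, hQgen⟩ := cone_spec w hS₁ hS
    refine ⟨CochainComplex.mappingCone w, ⟨isFP_mono hQ (by omega) (by omega), fun i => ?_⟩, ⟨?_ ≪≫ eE⟩⟩
    · show Gen R (max (N * M) (bound N (n + 1) (M + N * M))) _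
      by_cases hi : i = d
      · haveI := ModuleCat.subsingleton_of_isZero (hS₁.1 (i + 1) (by omega))
        exact (hQgen i 0 _ (Gen.of_subsingleton _) (hSgen i)).mono (by omega)
      · haveI := ModuleCat.subsingleton_of_isZero (hS.1 i (by omega))
        exact (hQgen i _ 0 ((hQ'.2 (i + 1 + -1)) : Gen R _ (S₁.X (i + 1))) (Gen.of_subsingleton _)).mono (by omega)
    · exact Triangle.π₃.mapIso (isoTriangleOfIso₁₂ _ T.invRotate
        (DerivedCategory.mappingCone_triangle_distinguished w) (inv_rot_of_distTriang _ hT) e₁ (Iso.refl _)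
        ((Category.comp_id _).trans hw))

end Groth.Agent.PerfSize
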