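import Groth.Agent.PerfSize.Gen
import Groth.Agent.DRingKP.TorMore
import Groth.Agent.PerfLocal.Perfect
import Mathlib.RingTheory.Finiteness.Descent
import Mathlib.RingTheory.Flat.EquationalCriterion
import Mathlib.Algebra.Category.ModuleCat.Biproducts

/-!
Bounded complexes of finite projectives: stripping, cones and base change, with numbers of generators.
-/

set_option autoImplicit false
set_option maxHeartbeats 1000000
set_option backward.isDefEq.respectTransparency false
universe u

namespace Groth.Agent.PerfSize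

open CategoryTheory Limits HomologicalComplex TensorProduct

attribute [local instance] HasDerivedCategory.standard

variable {R : Type u} [CommRing R]

/-- Bounded complex of finite projective modules. -/
def IsFP (P : DRing.Cx R) (c d : ℤ) : Prop :=
  (∀ i, (i < c ∨ d < i) → IsZero (P.X i)) ∧ ∀ i, Module.Finite R (P.X i) ∧ Module.Projective R (P.X i)

/-- Bounded complex of projective modules each generated by `M` elements. -/
def Sized (P : DRing.Cx R) (c d : ℤ) (M : ℕ) : Prop := IsFP P c d ∧ ∀ i, Gen R M (P.X i)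

theorem IsFP.kProjective {P : DRing.Cx R} {c d : ℤ} (h : IsFP P c d) : P.IsKProjective :=
  DRingKP.isKProjective_of_vanishesAbove (b := d) (fun i hi => h.1 i (Or.inr hi)) fun i =>
    haveI := (h.2 i).2; (IsProjective.iff_projective (P.X i)).1 inferInstance

theorem IsFP.flat {P : DRing.Cx R} {c d : ℤ} (h : IsFP P c d) : DRing.TermwiseFlat P := fun i =>
  haveI := (h.2 i).2; (inferInstance : Module.Flat R (P.X i))

theorem iCycles_surjective_retraction {P : DRing.Cx R} (i : ℤ) [Module.Projective R (P.X (i + 1))]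
    (hd : Function.Surjective (P.d i (i + 1))) :
    ∃ r : P.X i ⟶ P.cycles i, P.iCycles i ≫ r = 𝟙 _ := by
  obtain ⟨s, hs⟩ := Module.projective_lifting_property (P.d i (i + 1)).hom LinearMap.id hd
  let f : P.X i ⟶ P.X i := 𝟙 _ - P.d i (i + 1) ≫ ModuleCat.ofHom s
  have hf : f ≫ P.d i (i + 1) = 0 := ModuleCat.hom_ext (LinearMap.ext fun x => by
    show P.d i (i + 1) (x - s (P.d i (i + 1) x)) = 0
    rw [map_sub, sub_eq_zero]
    exact (LinearMap.congr_fun hs (P.d i (i + 1) x)).symm)
  refine ⟨P.liftCycles f (i + 1) (by simp) hf, ?_⟩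
  rw [← cancel_mono (P.iCycles i), Category.assoc, P.liftCycles_i f (i + 1) (by simp) hf, Category.id_comp,
    Preadditive.comp_sub, Category.comp_id, P.iCycles_d_assoc, zero_comp, sub_zero]

/-- Removing a top degree without homology. -/
theorem exists_strip {P : DRing.Cx R} {c d : ℤ} (hP : IsFP P c d) (hH : IsZero (P.homology d)) :
    ∃ P' : DRing.Cx R, IsFP P' c (d - 1) ∧ Nonempty (DRing.toD P' ≅ DRing.toD P) ∧
      ∀ M, (∀ i, Gen R M (P.X i)) → ∀ i, Gen R M (P'.X i) := by
  obtain ⟨e, rfl⟩ : ∃ e, e + 1 = d := ⟨d - 1, by omega⟩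
  rw [show e + 1 - 1 = e by omega]
  haveI : CochainComplex.IsLE P e := by
    rw [CochainComplex.isLE_iff]
    intro i hi
    rw [HomologicalComplex.exactAt_iff_isZero_homology]
    by_cases h : i = e + 1
    · exact h ▸ hH
    · exact ShortComplex.isZero_homology_of_isZero_X₂ _ (hP.1 i (Or.inr (by omega)))
  haveI : QuasiIso (P.ιTruncLE e) := (CochainComplex.quasiIso_ιTruncLE_iff P e).2 inferInstance
  haveI := (hP.2 (e + 1)).2
  have hd : Function.Surjective (P.d e (e + 1)) := by
    intro x
    have hz : ∀ y : P.X (e + 1 + 1), y = 0 := fun y =>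
      haveI := ModuleCat.subsingleton_of_isZero (hP.1 (e + 1 + 1) (Or.inr (by omega)))
      Subsingleton.elim _ _
    have hex := (ShortComplex.moduleCat_exact_iff _).1
      ((HomologicalComplex.exactAt_iff' P e (e + 1) (e + 1 + 1) (by simp) (by simp)).1
        ((HomologicalComplex.exactAt_iff_isZero_homology _ _).2 hH)) x (hz _)
    exact hex
  obtain ⟨r, hr⟩ := iCycles_surjective_retraction e hd
  let t := CochainComplex.truncLEXIsoCycles P e
  have hr' : ∀ y, t.inv (r (P.iCycles e (t.hom y))) = y := fun y => by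
    rw [show r (P.iCycles e (t.hom y)) = t.hom y from ConcreteCategory.congr_hom hr (t.hom y)]
    exact ConcreteCategory.congr_hom t.hom_inv_id y
  have hsurj : Function.Surjective (r ≫ t.inv) := fun y => ⟨P.iCycles e (t.hom y), hr' y⟩
  refine ⟨P.truncLE e, ⟨fun i hi => ?_, fun i => ?_⟩, ⟨asIso (DerivedCategory.Q.map (P.ιTruncLE e))⟩, fun M hM i => ?_⟩
  · by_cases h : e < i
    · exact (P.truncLE e).isZero_of_isStrictlyLE e i h
    · by_cases h' : i = e
      · subst h'
        haveI := ModuleCat.subsingleton_of_isZero (hP.1 i (by omega))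
        haveI : Subsingleton ((P.truncLE i).X i) :=
          ⟨fun x y => by rw [← hr' x, ← hr' y, Subsingleton.elim (P.iCycles i (t.hom x)) (P.iCycles i (t.hom y))]⟩
        exact ModuleCat.isZero_of_subsingleton _
      · exact (hP.1 i (by omega)).of_iso (CochainComplex.truncLEXIso P e i (by omega))
  · rcases lt_trichotomy i e with h | rfl | h
    · obtain ⟨h1, h2⟩ := hP.2 i
      exact ⟨Module.Finite.equiv (CochainComplex.truncLEXIso P e i h).toLinearEquiv.symm,
        Module.Projective.of_equiv (CochainComplex.truncLEXIso P e i h).toLinearEquiv.symm⟩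
    · obtain ⟨h1, h2⟩ := hP.2 i
      exact ⟨Module.Finite.of_surjective (r ≫ t.inv).hom hsurj,
        Module.Projective.of_split (t.hom ≫ P.iCycles i).hom (r ≫ t.inv).hom (LinearMap.ext hr')⟩
    · haveI := ModuleCat.subsingleton_of_isZero ((P.truncLE e).isZero_of_isStrictlyLE e i h)
      exact ⟨Module.Finite.of_finite, Module.Projective.of_free⟩
  · rcases lt_trichotomy i e with h | rfl | h
    · exact (hM i).of_surjective _ (CochainComplex.truncLEXIso P e i h).toLinearEquiv.symm.surjective
    · exact (hM i).of_surjective (r ≫ t.inv).hom hsurj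
    · haveI := ModuleCat.subsingleton_of_isZero ((P.truncLE e).isZero_of_isStrictlyLE e i h)
      exact Gen.of_subsingleton _

/-- The top homology is a quotient of the top term. -/
theorem exists_surjective_homology {P : DRing.Cx R} {c d : ℤ} (hP : IsFP P c d) :
    ∃ f : P.X d →ₗ[R] P.homology d, Function.Surjective f := by
  have hd : P.d d (d + 1) = 0 := (hP.1 (d + 1) (Or.inr (by omega))).eq_of_tgt _ _
  haveI : IsIso (P.iCycles d) := P.isIso_iCycles d (d + 1) (by simp) hd
  exact ⟨(inv (P.iCycles d) ≫ P.homologyπ d).hom, (ModuleCat.epi_iff_surjective _).1 inferInstance⟩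

/-- Cones of maps of bounded complexes of projectives. -/
theorem cone_spec {S P : DRing.Cx R} (σ : S ⟶ P) {c d c' d' : ℤ} (hS : IsFP S c' d') (hP : IsFP P c d) :
    IsFP (CochainComplex.mappingCone σ) (min c (c' - 1)) (max d (d' - 1)) ∧
      (∀ i m n, Gen R m (S.X (i + 1)) → Gen R n (P.X i) →
        Gen R (m + n) ((CochainComplex.mappingCone σ).X i)) := by
  let e : ∀ i, ((S.X (i + 1) : Type u) × (P.X i : Type u)) ≃ₗ[R] (CochainComplex.mappingCone σ).X i := fun i =>
    ((ModuleCat.biprodIsoProd (S.X (i + 1)) (P.X i)).symm ≪≫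
      (HomologicalComplex.homotopyCofiber.XIsoBiprod σ i (i + 1) (by simp)).symm).toLinearEquiv
  refine ⟨⟨fun i hi => ?_, fun i => ?_⟩, fun i m n h h' => (h.prod h').of_surjective _ (e i).surjective⟩
  · haveI := ModuleCat.subsingleton_of_isZero (hS.1 (i + 1) (by omega))
    haveI := ModuleCat.subsingleton_of_isZero (hP.1 i (by omega))
    haveI : Subsingleton ((CochainComplex.mappingCone σ).X i) := (e i).symm.toEquiv.subsingleton
    exact ModuleCat.isZero_of_subsingleton _
  · obtain ⟨h1, h2⟩ := hS.2 (i + 1)
    obtain ⟨h3, h4⟩ := hP.2 i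
    exact ⟨Module.Finite.equiv (e i), Module.Projective.of_equiv (e i)⟩

/-- Third objects of triangles on isomorphic maps. -/
theorem cone_iso {S P S' P' : DRing.Cx R} (σ : S ⟶ P) (σ' : S' ⟶ P') (eS : DRing.toD S ≅ DRing.toD S')
    (eP : DRing.toD P ≅ DRing.toD P') (h : DerivedCategory.Q.map σ ≫ eP.hom = eS.hom ≫ DerivedCategory.Q.map σ') :
    Nonempty (DRing.toD (CochainComplex.mappingCone σ) ≅ DRing.toD (CochainComplex.mappingCone σ')) :=
  ⟨Pretriangulated.Triangle.π₃.mapIso (Pretriangulated.isoTriangleOfIso₁₂ _ _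
    (DerivedCategory.mappingCone_triangle_distinguished σ) (DerivedCategory.mappingCone_triangle_distinguished σ')
    eS eP h)⟩

section BaseChange

variable {B : Type u} [CommRing B] (φ : R →+* B)

theorem isFP_bc {P : DRing.Cx R} {c d : ℤ} (h : IsFP P c d) : IsFP ((DRingKP.bc φ).obj P) c d :=
  ⟨fun i hi => (ModuleCat.extendScalars.{u, u, u} φ).map_isZero (h.1 i hi),
    fun i => DRingKP.extendScalars_finiteProjective φ (h.2 i)⟩

theorem bc_iso {P P' : DRing.Cx R} {c d c' d' : ℤ} (hP : IsFP P c d) (hP' : IsFP P' c' d')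
    (e : DRing.toD P ≅ DRing.toD P') :
    Nonempty (DRing.toD ((DRingKP.bc φ).obj P) ≅ DRing.toD ((DRingKP.bc φ).obj P')) := by
  haveI := hP.kProjective
  obtain ⟨f, hf⟩ := PerfLocal.exists_lift e.hom
  haveI : IsIso (DerivedCategory.Q.map f) := by rw [hf]; infer_instance
  haveI : QuasiIso f := (DerivedCategory.isIso_Q_map_iff_quasiIso (φ := f)).1 inferInstance
  haveI := DRingKP.quasiIso_bc φ f (b := d) (b' := d') (fun i hi => hP.1 i (Or.inr hi))
    (fun i hi => hP'.1 i (Or.inr hi)) hP.flat hP'.flat
  exact ⟨asIso (DerivedCategory.Q.map ((DRingKP.bc φ).map f))⟩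

/-- Base change of homology along a flat map. -/
theorem exists_homology_bc (hφ : φ.Flat) (E : DRing.Cx R) (i : ℤ) :
    Nonempty (((DRingKP.bc φ).obj E).homology i ≅ (ModuleCat.extendScalars.{u, u, u} φ).obj (E.homology i)) := by
  haveI := ModuleCat.preservesFiniteLimits_extendScalars_of_flat hφ
  haveI := (ModuleCat.extendRestrictScalarsAdj.{u, u, u} φ).leftAdjoint_preservesColimits
  haveI : PreservesFiniteColimits (ModuleCat.extendScalars.{u, u, u} φ) := inferInstance
  exact ⟨(E.sc i).mapHomologyIso (ModuleCat.extendScalars.{u, u, u} φ)⟩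

theorem extendScalars_equiv (M : ModuleCat.{u} R) :
    letI := φ.toAlgebra
    Nonempty ((ModuleCat.extendScalars.{u, u, u} φ).obj M ≃ₗ[B] B ⊗[R] M) := by
  algebraize [φ]
  exact ⟨LinearEquiv.refl B (B ⊗[R] M)⟩

end BaseChange

/-- Finite projectivity descends. -/
theorem projective_of_baseChange {B : Type u} [CommRing B] [Algebra R B] [Module.FaithfullyFlat R B]
    (M : Type u) [AddCommGroup M] [Module R M] [Module.Finite R M] [Module.Projective B (B ⊗[R] M)] :
    Module.Projective R M := by
  haveI : Module.Flat R M := Module.Flat.of_flat_tensorProduct R M B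
  obtain ⟨r, g, hg⟩ := Module.Finite.exists_fin' R M
  haveI : Module.Finite B (B ⊗[R] LinearMap.ker g) := by
    have hsurj : Function.Surjective (g.baseChange B) := LinearMap.lTensor_surjective B hg
    obtain ⟨s, hs⟩ := Module.projective_lifting_property (g.baseChange B) LinearMap.id hsurj
    have hex : Function.Exact ((LinearMap.ker g).subtype.baseChange B) (g.baseChange B) :=
      lTensor_exact B (LinearMap.exact_subtype_ker_map g) hg
    have hinj : Function.Injective ((LinearMap.ker g).subtype.baseChange B) :=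
      Module.Flat.lTensor_preserves_injective_linearMap _ (Submodule.injective_subtype _)
    let e : B ⊗[R] LinearMap.ker g ≃ₗ[B] LinearMap.ker (g.baseChange B) :=
      (LinearEquiv.ofInjective _ hinj).trans (LinearEquiv.ofEq _ _ (LinearMap.exact_iff.1 hex).symm)
    haveI : Module.Finite B (LinearMap.ker (g.baseChange B)) :=
      Module.Finite.of_surjective ((LinearMap.id - s.comp (g.baseChange B)).codRestrict _ fun x => by
          show g.baseChange B (x - s (g.baseChange B x)) = 0
          rw [map_sub, sub_eq_zero]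
          exact (LinearMap.congr_fun hs _).symm)
        fun y => ⟨y.1, Subtype.ext (show y.1 - s (g.baseChange B y.1) = y.1 by
          rw [show g.baseChange B y.1 = 0 from y.2, map_zero, sub_zero])⟩
    exact Module.Finite.equiv e.symm
  haveI : Module.Finite R (LinearMap.ker g) := Module.Finite.of_finite_tensorProduct_of_faithfullyFlat B
  haveI : Module.FinitePresentation R M := Module.finitePresentation_of_surjective g hg (Module.Finite.iff_fg.1 inferInstance)
  exact Module.Flat.projective_of_finitePresentation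

end Groth.Agent.PerfSize
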